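import Mathlib.Topology.KrullDimension
import Mathlib.Topology.Sober
import Mathlib.Topology.Inseparable
import Mathlib.Order.KrullDimension

/-!
Krull dimension comparison along maps of sober spaces with lifting of specializations or
generalizations, and along maps with incomparable fibres.
-/

namespace Groth.Agent.DimLift

open Order TopologicalSpace Topology

theorem le_height_of_downLift {P Q : Type*} [PartialOrder P] [Preorder Q] (f : P → Q)
    (hlift : ∀ x a, a ≤ f x → ∃ a', a' ≤ x ∧ f a' = a) :
    ∀ (n : ℕ) (l : LTSeries Q) (x : P), l.length = n → l.last = f x → (n : ℕ∞) ≤ height x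
  | 0, _, _, _, _ => by simp
  | n + 1, l, x, hn, hl => by
    have hlt : l.eraseLast.last < f x := hl ▸ l.eraseLast_last_rel_last (by omega)
    obtain ⟨a', ha', hfa'⟩ := hlift x _ hlt.le
    have hax : a' < x := lt_of_le_of_ne ha' (by rintro rfl; exact hlt.ne hfa'.symm)
    have ih := le_height_of_downLift f hlift n l.eraseLast a' (by simp; omega) hfa'.symm
    push_cast
    exact le_trans (add_le_add ih le_rfl) (height_add_one_le hax)

theorem krullDim_le_of_downLift {P Q : Type*} [PartialOrder P] [Preorder Q] (f : P → Q)
    (hs : Function.Surjective f) (hlift : ∀ x a, a ≤ f x → ∃ a', a' ≤ x ∧ f a' = a) :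
    krullDim Q ≤ krullDim P := by
  refine iSup_le fun l => ?_
  obtain ⟨x, hx⟩ := hs l.last
  exact le_trans (WithBot.coe_le_coe.mpr (le_height_of_downLift f hlift l.length l x rfl hx.symm))
    (height_le_krullDim x)

theorem krullDim_le_of_upLift {P Q : Type*} [PartialOrder P] [Preorder Q] (f : P → Q)
    (hs : Function.Surjective f) (hlift : ∀ x a, f x ≤ a → ∃ a', x ≤ a' ∧ f a' = a) :
    krullDim Q ≤ krullDim P := by
  rw [← krullDim_orderDual (α := Q), ← krullDim_orderDual (α := P)]
  exact krullDim_le_of_downLift (P := Pᵒᵈ) (Q := Qᵒᵈ) (fun x => OrderDual.toDual (f (OrderDual.ofDual x)))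
    (fun q => by obtain ⟨p, hp⟩ := hs (OrderDual.ofDual q); exact ⟨OrderDual.toDual p, congrArg OrderDual.toDual hp⟩)
    (fun x a h => by
      obtain ⟨a', h1, h2⟩ := hlift (OrderDual.ofDual x) (OrderDual.ofDual a) h
      exact ⟨OrderDual.toDual a', h1, congrArg OrderDual.toDual h2⟩)

attribute [local instance] specializationOrder

variable {X Y : Type*} [TopologicalSpace X] [TopologicalSpace Y] [QuasiSober X] [T0Space X]
  [QuasiSober Y] [T0Space Y]

theorem topDim_eq_krullDim_points : topologicalKrullDim X = krullDim X :=
  krullDim_eq_of_orderIso irreducibleSetEquivPoints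

theorem topDim_le_of_specializingMap {f : X → Y} (hs : Function.Surjective f)
    (hf : SpecializingMap f) : topologicalKrullDim Y ≤ topologicalKrullDim X := by
  rw [topDim_eq_krullDim_points (X := X), topDim_eq_krullDim_points (X := Y)]
  refine krullDim_le_of_downLift f hs fun x a h => ?_
  obtain ⟨a', h1, h2⟩ := hf (show f x ⤳ a from h)
  exact ⟨a', h1, h2⟩

theorem topDim_le_of_generalizingMap {f : X → Y} (hs : Function.Surjective f)
    (hf : GeneralizingMap f) : topologicalKrullDim Y ≤ topologicalKrullDim X := by
  rw [topDim_eq_krullDim_points (X := X), topDim_eq_krullDim_points (X := Y)]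
  refine krullDim_le_of_upLift f hs fun x a h => ?_
  obtain ⟨a', h1, h2⟩ := hf (show a ⤳ f x from h)
  exact ⟨a', h1, h2⟩

/-- A continuous map with no specializations inside its fibres does not decrease dimension. -/
theorem topDim_le_of_fibres_antichain {f : X → Y} (hc : Continuous f)
    (hf : ∀ x x', x ⤳ x' → f x = f x' → x = x') :
    topologicalKrullDim X ≤ topologicalKrullDim Y := by
  rw [topDim_eq_krullDim_points (X := X), topDim_eq_krullDim_points (X := Y)]
  refine krullDim_le_of_strictMono f fun a b hab => ?_
  have h1 : b ⤳ a := hab.le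
  exact lt_of_le_of_ne (show f b ⤳ f a from h1.map hc) fun e => hab.ne (hf b a h1 e.symm).symm

end Groth.Agent.DimLift
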